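import Cfsg.Agent.S1526
import Cfsg.Agent.Lib.Transfer.Hall
import Cfsg.Prelude.Def_OddOrder
import Cfsg.Prelude.Def_OddOrderLocal
import Cfsg.Prelude.Def_LieExceptional
import Mathlib.Tactic

/-!
Solvability of groups of odd order with nilpotent element centralisers, from the local structure of
a minimal simple one: maximal nilpotent subgroups are Hall TI subgroups, proper in their normalisers.
-/

set_option autoImplicit false
open Cfsg Subgroup

namespace Cfsg.Agent.Lib.OddPartition

universe u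

variable {G : Type u} [Group G]

/-- Nilpotent, and in no larger nilpotent subgroup. -/
def IsMaxNil (H : Subgroup G) : Prop :=
  Group.IsNilpotent H ∧ ∀ L : Subgroup G, Group.IsNilpotent L → H ≤ L → L = H

theorem exists_isMaxNil [Finite G] {C : Subgroup G} (hC : Group.IsNilpotent C) :
    ∃ H, IsMaxNil H ∧ C ≤ H := by
  obtain ⟨H, ⟨hH, hCH⟩, hmax⟩ := (Set.toFinite
    {K : Subgroup G | Group.IsNilpotent K ∧ C ≤ K}).exists_maximal ⟨C, hC, le_rfl⟩
  exact ⟨H, ⟨hH, fun L hL hHL => le_antisymm (hmax ⟨hL, hCH.trans hHL⟩ hHL) hHL⟩, hCH⟩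

theorem isMaxNil_map {H : Subgroup G} (hH : IsMaxNil H) (g : G) :
    IsMaxNil (H.map (MulAut.conj g).toMonoidHom) := by
  have key : ∀ (K : Subgroup G) (a : G), Group.IsNilpotent K →
      Group.IsNilpotent (K.map (MulAut.conj a).toMonoidHom) := fun K a hK =>
    Group.nilpotent_of_mulEquiv (K.equivMapOfInjective _ (MulEquiv.injective (MulAut.conj a)))
  refine ⟨key H g hH.1, fun L hL hle => ?_⟩
  have h1 := hH.2 _ (key L g⁻¹ hL) fun x hx => ⟨_, hle ⟨x, hx, rfl⟩, by
    simp [mul_assoc]⟩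
  rw [← h1]
  ext x
  simp [mem_map, mul_assoc]

/-- A subgroup containing all elements of prime power order of `K` contains `K`. -/
theorem le_of_primary [Finite G] {K C : Subgroup G}
    (h : ∀ (q : ℕ), q.Prime → ∀ y ∈ K, ∀ n : ℕ, orderOf y = q ^ n → y ∈ C) : K ≤ C := by
  have hdvd : Nat.card K ∣ Nat.card (C ⊓ K : Subgroup G) := by
    refine (Nat.dvd_iff_prime_pow_dvd_dvd _ _).mpr fun q k hqp hqk => ?_
    have : Fact q.Prime := ⟨hqp⟩
    let Q : Sylow q K := default
    have hle : (Q : Subgroup K).map K.subtype ≤ C ⊓ K := by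
      rintro _ ⟨y, hy, rfl⟩
      obtain ⟨n, hn⟩ := IsPGroup.iff_orderOf.mp Q.2 ⟨y, hy⟩
      exact ⟨h q hqp y y.2 n (by rw [← hn, Subgroup.orderOf_mk, orderOf_coe]), y.2⟩
    have h1 := card_dvd_of_le hle
    rw [card_map_of_injective K.subtype_injective] at h1
    exact (Q.pow_dvd_card_of_pow_dvd_card hqk).trans h1
  intro x hx
  have := eq_of_le_of_card_ge (inf_le_right : C ⊓ K ≤ K) (Nat.le_of_dvd Nat.card_pos hdvd)
  exact (show x ∈ C ⊓ K from this.symm ▸ hx).1

theorem commute_of_nilpotent [Finite G] {K : Subgroup G} (hK : Group.IsNilpotent K) {a b : G}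
    (ha : a ∈ K) (hb : b ∈ K) (h : (orderOf a).Coprime (orderOf b)) : a * b = b * a := by
  have := hK
  have h1 := Lib.Transfer.commute_of_coprime_orderOf (G := K) (x := ⟨a, ha⟩) (y := ⟨b, hb⟩)
    (by rwa [Subgroup.orderOf_mk, Subgroup.orderOf_mk])
  exact congrArg Subtype.val h1.eq

theorem exists_sylow_le_of_hall [Finite G] {H : Subgroup G} (hH : Group.IsNilpotent H)
    (hhall : (Nat.card H).Coprime H.index) {p : ℕ} [hp : Fact p.Prime] (hpH : p ∣ Nat.card H) :
    ∃ P : Sylow p G, (P : Subgroup G) ≤ H ∧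
      (∀ y ∈ H, ∀ n : ℕ, orderOf y = p ^ n → y ∈ (P : Subgroup G)) ∧
      ∃ z ∈ (P : Subgroup G), z ≠ 1 ∧ H ≤ centralizer ({z} : Set G) := by
  let Q : Sylow p H := default
  have hQn : (Q : Subgroup H).Normal := ((Group.isNilpotent_of_finite_tfae (G := H)).out 0 3 rfl rfl).mp hH p hp Q
  have hi : ¬ p ∣ ((Q : Subgroup H).map H.subtype).index := by
    rw [index_map_subtype]
    exact Nat.Prime.not_dvd_mul hp.out Q.not_dvd_index
      fun h => hp.out.not_dvd_one (hhall ▸ Nat.dvd_gcd hpH h)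
  let P : Sylow p G := (IsPGroup.map Q.2 H.subtype).toSylow hi
  have hP : (P : Subgroup G) = (Q : Subgroup H).map H.subtype := rfl
  have hall : ∀ y ∈ H, ∀ n : ℕ, orderOf y = p ^ n → y ∈ (P : Subgroup G) := by
    intro y hy n hn
    obtain ⟨Q', hQ'⟩ := (IsPGroup.of_card (n := n)
      (by rw [Nat.card_zpowers, Subgroup.orderOf_mk, hn]) : IsPGroup p (zpowers (⟨y, hy⟩ : H))).exists_le_sylow
    have : Subsingleton (Sylow p H) := by
      have := Sylow.unique_of_normal Q hQn
      infer_instance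
    rw [Subsingleton.elim Q' Q] at hQ'
    exact hP ▸ ⟨_, hQ' (mem_zpowers _), rfl⟩
  refine ⟨P, hP ▸ map_subtype_le _, hall, ?_⟩
  have : Nontrivial (P : Subgroup G) := by
    obtain ⟨y, hy⟩ := exists_prime_orderOf_dvd_card' (G := H) p hpH
    refine ⟨⟨⟨y, hall y y.2 1 (by rw [orderOf_coe, hy, pow_one])⟩, 1, fun e => ?_⟩⟩
    rw [← orderOf_coe, congrArg Subtype.val e, OneMemClass.coe_one, orderOf_one] at hy
    exact hp.out.ne_one hy.symm
  have := P.2.center_nontrivial
  obtain ⟨⟨z, hz⟩, hz1⟩ := exists_ne (1 : center (P : Subgroup G))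
  refine ⟨z, z.2, fun e => hz1 (Subtype.ext (Subtype.ext e)), le_of_primary fun q hq y hy n hn => ?_⟩
  rw [mem_centralizer_singleton_iff]
  by_cases hqp : q = p
  · subst hqp
    exact congrArg Subtype.val (Subgroup.mem_center_iff.mp hz ⟨y, hall y hy n hn⟩)
  · obtain ⟨m, hm⟩ := IsPGroup.iff_orderOf.mp P.2 z
    exact commute_of_nilpotent hH hy (hP ▸ map_subtype_le _ <| z.2) (by
      rw [hn, orderOf_coe, hm]
      exact ((Nat.coprime_primes hq hp.out).mpr hqp).pow _ _)

variable [Finite G]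

/-- The contradiction from the local structure. -/
theorem false_of_local (hodd : Odd (Nat.card G)) (hCN : IsCNGroup G) (hnn : ¬ Group.IsNilpotent G)
    (hloc : ∀ H : Subgroup G, IsMaxNil H → (Nat.card H).Coprime H.index ∧
      (∀ g : G, H.map (MulAut.conj g).toMonoidHom ≠ H → H ⊓ H.map (MulAut.conj g).toMonoidHom = ⊥) ∧
      H < normalizer (H : Set G)) : False := by
  classical
  have : Nontrivial G := by
    by_contra hc
    rw [not_nontrivial_iff_subsingleton] at hc
    exact hnn Group.isNilpotent_of_subsingleton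
  have hne : ∀ H : Subgroup G, IsMaxNil H → H ≠ ⊥ := by
    intro H hH h
    obtain ⟨x, hx⟩ := exists_ne (1 : G)
    have h2 := hH.2 (zpowers x) (by
      letI : CommGroup (zpowers x) := { (inferInstance : Group (zpowers x)) with
        mul_comm := fun a b => mul_comm' a b }
      infer_instance) (h ▸ bot_le)
    rw [h, zpowers_eq_bot] at h2
    exact hx h2
  have hC : ∀ H : Subgroup G, IsMaxNil H → ∀ x ∈ H, x ≠ 1 → ∀ p : ℕ, p.Prime → orderOf x = p →
      ∀ K : Subgroup G, IsMaxNil K → centralizer ({x} : Set G) ≤ K → H = K := by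
    intro H hH x hx hx1 p hp hxp K hK hxK
    have : Fact p.Prime := ⟨hp⟩
    have hxKmem : x ∈ K := hxK (mem_centralizer_singleton_iff.mpr rfl)
    obtain ⟨P, hPH, hPall, z, hzP, hz1, hzH⟩ :=
      exists_sylow_le_of_hall hH.1 (hloc H hH).1 (hxp ▸ orderOf_dvd_natCard H hx)
    obtain ⟨Q, hQK, hQall, -⟩ :=
      exists_sylow_le_of_hall hK.1 (hloc K hK).1 (hxp ▸ orderOf_dvd_natCard K hxKmem)
    have hxP : x ∈ (P : Subgroup G) := hPall x hx 1 (by rw [pow_one, hxp])
    have hzC : centralizer ({z} : Set G) = H := hH.2 _ (hCN z hz1) hzH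
    have hzK : z ∈ K := hxK (mem_centralizer_singleton_iff.mpr
      (mem_centralizer_singleton_iff.mp (hzH hx)).symm)
    obtain ⟨m, hm⟩ := IsPGroup.iff_orderOf.mp P.2 ⟨z, hzP⟩
    rw [Subgroup.orderOf_mk] at hm
    have hKp' : ∀ q : ℕ, q.Prime → q ≠ p → ∀ y ∈ K, ∀ n : ℕ, orderOf y = q ^ n → y ∈ H := by
      intro q hq hqp y hy n hn
      rw [← hzC, mem_centralizer_singleton_iff]
      exact commute_of_nilpotent hK.1 hy hzK (by
        rw [hn, hm]; exact ((Nat.coprime_primes hq hp).mpr hqp).pow _ _)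
    by_cases hq : ∃ q, q.Prime ∧ q ≠ p ∧ q ∣ Nat.card H
    · obtain ⟨q, hq, hqp, hqH⟩ := hq
      have : Fact q.Prime := ⟨hq⟩
      obtain ⟨R, hRH, -, u, huR, hu1, huH⟩ := exists_sylow_le_of_hall hH.1 (hloc H hH).1 hqH
      have huC : centralizer ({u} : Set G) = H := hH.2 _ (hCN u hu1) huH
      have huK : u ∈ K := hxK (mem_centralizer_singleton_iff.mpr
        (mem_centralizer_singleton_iff.mp (huH hx)).symm)
      obtain ⟨k, hk⟩ := IsPGroup.iff_orderOf.mp R.2 ⟨u, huR⟩
      rw [Subgroup.orderOf_mk] at hk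
      refine hK.2 H hH.1 (le_of_primary fun r hr y hy n hn => ?_)
      by_cases hrp : r = p
      · rw [← huC, mem_centralizer_singleton_iff]
        exact commute_of_nilpotent hK.1 hy huK (by
          rw [hn, hk, hrp]; exact ((Nat.coprime_primes hp hq).mpr hqp.symm).pow _ _)
      · exact hKp' r hr hrp y hy n hn
    push Not at hq
    have hKq : ∀ q : ℕ, q.Prime → q ≠ p → ∀ y ∈ K, ∀ n : ℕ, orderOf y = q ^ n → y = 1 := by
      intro q hq' hqp y hy n hn
      rcases Nat.eq_zero_or_pos n with rfl | hn0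
      · exact orderOf_eq_one_iff.mp (by rw [hn, pow_zero])
      · exact absurd ((dvd_pow_self q hn0.ne').trans
          (hn ▸ orderOf_dvd_natCard H (hKp' q hq' hqp y hy n hn))) (hq q hq' hqp)
    have hKQ : K = Q := le_antisymm (le_of_primary fun q hq' y hy n hn => by
      by_cases hqp : q = p
      · subst hqp; exact hQall y hy n hn
      · rw [hKq q hq' hqp y hy n hn]; exact one_mem _) hQK
    have hHP : H = P := le_antisymm (le_of_primary fun q hq' y hy n hn => by
      by_cases hqp : q = p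
      · subst hqp; exact hPall y hy n hn
      · rcases Nat.eq_zero_or_pos n with rfl | hn0
        · rw [orderOf_eq_one_iff.mp (by rw [hn, pow_zero] : orderOf y = 1)]; exact one_mem _
        · exact absurd ((dvd_pow_self q hn0.ne').trans (hn ▸ orderOf_dvd_natCard H hy))
            (hq q hq' hqp)) hPH
    obtain ⟨g, hg⟩ := MulAction.exists_smul_eq G P Q
    have hgH : H.map (MulAut.conj g).toMonoidHom = K := by
      rw [hKQ, hHP, ← hg, Sylow.coe_subgroup_smul]
      rfl
    by_contra hne'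
    have hbot := (hloc H hH).2.1 g (fun h => hne' (by rw [← hgH, h]))
    exact hx1 (mem_bot.mp (hbot ▸ ⟨hx, hgH ▸ hxKmem⟩))
  have huniq : ∀ H : Subgroup G, IsMaxNil H → ∀ K : Subgroup G, IsMaxNil K → ∀ x ∈ H, x ∈ K →
      x ≠ 1 → H = K := by
    intro H hH K hK x hxH hxK hx1
    obtain ⟨p, hp, hpd⟩ := Nat.exists_prime_and_dvd (fun h => hx1 (orderOf_eq_one_iff.mp h) : orderOf x ≠ 1)
    have ho : orderOf (x ^ (orderOf x / p)) = p := orderOf_pow_orderOf_div (orderOf_pos x).ne' hpd
    have hne1 : x ^ (orderOf x / p) ≠ 1 := fun h => hp.ne_one (by rw [← ho, h, orderOf_one])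
    obtain ⟨M, hM, hMle⟩ := exists_isMaxNil (hCN _ hne1)
    rw [hC H hH _ (pow_mem hxH _) hne1 p hp ho M hM hMle,
      hC K hK _ (pow_mem hxK _) hne1 p hp ho M hM hMle]
  have hcent : ∀ H : Subgroup G, IsMaxNil H → ∀ h ∈ H, h ≠ 1 → centralizer ({h} : Set G) ≤ H := by
    intro H hH h hh hh1
    obtain ⟨M, hM, hMle⟩ := exists_isMaxNil (hCN h hh1)
    rwa [huniq H hH M hM h hh (hMle (mem_centralizer_singleton_iff.mpr rfl)) hh1]
  let S := {H : Subgroup G // IsMaxNil H}
  let r : Setoid S :=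
    { r := fun H K => ∃ g : G, H.1.map (MulAut.conj g).toMonoidHom = K.1
      iseqv :=
        { refl := fun H => ⟨1, by ext; simp⟩
          symm := by
            rintro H K ⟨g, hg⟩
            refine ⟨g⁻¹, ?_⟩
            rw [← hg]; ext; simp [mem_map, mul_assoc]
          trans := by
            rintro H K M ⟨g, hg⟩ ⟨h, hh⟩
            refine ⟨h * g, ?_⟩
            rw [← hh, ← hg, map_map]
            congr 1
            ext; simp [mul_assoc] } }
  have := Fintype.ofFinite (Quotient r)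
  have : Nonempty (Quotient r) := by
    obtain ⟨H, hH, -⟩ := exists_isMaxNil (G := G) (C := ⊥) Group.isNilpotent_of_subsingleton
    exact ⟨Quotient.mk r ⟨H, hH⟩⟩
  let H : Quotient r → Subgroup G := fun q => q.out.1
  refine S1526.core hodd (fun q => normalizer (H q : Set G)) H (fun q => (hloc _ q.out.2).2.2)
    (fun q => hne _ q.out.2) (fun q x hx h hh => (Subgroup.mem_normalizer_iff.mp hx h).mp hh)
    (fun q h hh hh1 => inf_le_right.trans (hcent _ q.out.2 h hh hh1)) (fun i j hij => ?_)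
    (fun q => ⟨fun g hg y hy hgy => by_contra fun hy1 => hg ?_, rfl⟩) (fun g hg => ?_)
  · by_contra hc
    obtain ⟨p, hp, h1, h2⟩ := Nat.Prime.not_coprime_iff_dvd.mp hc
    have : Fact p.Prime := ⟨hp⟩
    obtain ⟨P, hP, -, z, hz, hz1, -⟩ := exists_sylow_le_of_hall i.out.2.1 (hloc _ i.out.2).1 h1
    obtain ⟨Q, hQ, -⟩ := exists_sylow_le_of_hall j.out.2.1 (hloc _ j.out.2).1 h2
    obtain ⟨g, rfl⟩ := MulAction.exists_smul_eq G P Q
    have hgz : g * z * g⁻¹ ∈ (H j : Subgroup G) := hQ (by
      rw [Sylow.coe_subgroup_smul]; exact ⟨z, hz, rfl⟩)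
    refine hij ?_
    rw [← Quotient.out_eq i, ← Quotient.out_eq j]
    exact Quotient.sound ⟨g, huniq _ (isMaxNil_map i.out.2 g) _ j.out.2 _ ⟨z, hP hz, rfl⟩ hgz
      (fun h => hz1 (conj_eq_one_iff.mp h))⟩
  · have h1 : (H q).map (MulAut.conj g).toMonoidHom = H q :=
      huniq _ (isMaxNil_map q.out.2 g) _ q.out.2 (g * y * g⁻¹) ⟨y, hy, rfl⟩ hgy
        (fun h => hy1 (conj_eq_one_iff.mp h))
    rw [Subgroup.mem_normalizer_iff]
    intro a
    constructor
    · intro ha; rw [← h1]; exact ⟨a, ha, rfl⟩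
    · intro ha
      rw [← h1] at ha
      obtain ⟨b, hb, hba⟩ := ha
      have e : g * b * g⁻¹ = g * a * g⁻¹ := hba
      rwa [mul_left_cancel (mul_right_cancel e)] at hb
  · obtain ⟨K, hK, hle⟩ := exists_isMaxNil (hCN g hg)
    obtain ⟨k, hk⟩ := Quotient.exact (Quotient.out_eq (Quotient.mk r ⟨K, hK⟩)).symm
    exact ⟨Quotient.mk r ⟨K, hK⟩, k, show k * g * k⁻¹ ∈ (Quotient.out (Quotient.mk r ⟨K, hK⟩)).1 from
      hk ▸ ⟨g, hle (mem_centralizer_singleton_iff.mpr rfl), rfl⟩⟩

/-- The reduction of the CN theorem to the local structure of a minimal simple counterexample. -/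
theorem cn_solvable
    (hquot : ∀ (X : Type u) [Group X] [Finite X], IsCNGroup X → ∀ (H : Subgroup X) [H.Normal],
      Group.IsSolvable H → IsCNGroup (X ⧸ H))
    (hloc : ∀ (X : Type u) [Group X] [Finite X], IsMinSimpleOddOrder X → IsCNGroup X →
      ∀ H : Subgroup X, IsMaxNil H → (Nat.card H).Coprime H.index ∧
        (∀ g : X, H.map (MulAut.conj g).toMonoidHom ≠ H → H ⊓ H.map (MulAut.conj g).toMonoidHom = ⊥) ∧
        H < normalizer (H : Set X)) :
    ∀ (n : ℕ) (X : Type u) [Group X] [Finite X], Nat.card X = n → Odd (Nat.card X) → IsCNGroup X →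
      Group.IsSolvable X := by
  intro n
  induction n using Nat.strong_induction_on with
  | _ n ih =>
  intro X _ _ hn hodd hCN
  by_contra hns
  have hab : ¬ IsMulCommutative X := fun h => hns (Group.isSolvable_of_comm fun a b => h.is_comm.comm a b)
  have hprop : ∀ K : Subgroup X, K ≠ ⊤ → Group.IsSolvable K := by
    intro K hK
    refine ih (Nat.card K) ?_ K rfl (hodd.of_dvd_nat (card_subgroup_dvd_card K)) fun g hg => ?_
    · rw [← hn]
      exact lt_of_le_of_ne (Nat.le_of_dvd Nat.card_pos (card_subgroup_dvd_card K))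
        fun h => hK (eq_top_of_card_eq K h)
    · have := hCN (g : X) fun h => hg (Subtype.ext h)
      let f : centralizer ({g} : Set K) →* centralizer ({(g : X)} : Set X) :=
        { toFun := fun a => ⟨a.1.1, mem_centralizer_singleton_iff.mpr
            (congrArg Subtype.val (mem_centralizer_singleton_iff.mp a.2))⟩
          map_one' := rfl
          map_mul' := fun _ _ => rfl }
      refine _root_.isNilpotent_of_ker_le_center f fun a ha => ?_
      rw [show a = 1 from Subtype.ext (Subtype.ext (congrArg Subtype.val ha :))]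
      exact one_mem _
  have hsimple : IsSimpleGroup X := by
    have : Nontrivial X := by
      by_contra hc
      rw [not_nontrivial_iff_subsingleton] at hc
      exact hns (Group.isSolvable_of_comm fun a b => Subsingleton.elim _ _)
    refine ⟨fun N hN => ?_⟩
    by_contra hc
    push Not at hc
    have hNs := hprop N hc.2
    have hlt : Nat.card (X ⧸ N) < n := by
      rw [← hn, card_eq_card_quotient_mul_card_subgroup N]
      exact lt_mul_of_one_lt_right Nat.card_pos (N.one_lt_card_iff_ne_bot.mpr hc.1)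
    have := ih _ hlt (X ⧸ N) rfl (hodd.of_dvd_nat (by
      rw [card_eq_card_quotient_mul_card_subgroup N]; exact dvd_mul_right _ _)) (hquot X hCN N hNs)
    exact hns (Group.isSolvable_of_ker_le_range N.subtype (QuotientGroup.mk' N) (by simp))
  exact false_of_local hodd hCN (fun h => hns inferInstance)
    (hloc X ⟨hodd, hsimple, hab, hprop⟩ hCN)

end Cfsg.Agent.Lib.OddPartition
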