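import Cfsg.Agent.S1528
import Cfsg.Agent.Lib.Char.Coherent
import Cfsg.Agent.Lib.Dade.TI
import Cfsg.Agent.Lib.Dade.Lattice
import Cfsg.Agent.Lib.Involution.Exceptional
import Cfsg.Agent.Lib.FPF.FrobeniusKernel
import Mathlib.Tactic

/-!
A subgroup `H` which is a TI set, contains the centralisers of its nontrivial elements and is
proper in its normaliser `L`: the induced linear characters of `H` give a coherent family in `G`,
and the values of an irreducible character on `H` have a lower bound in terms of this family.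
-/

set_option autoImplicit false

open scoped ComplexConjugate
open Cfsg

namespace Cfsg.Agent.Lib.OddPartition

open Cfsg.Agent.Lib.Char Cfsg.Agent.Lib.Dade

universe u

variable {G : Type u} [Group G]

/-- A Frobenius group `L` with kernel `H`, embedded as the normaliser of the TI set `H`. -/
structure IsFrobTI (L H : Subgroup G) : Prop where
  lt : H < L
  ne_bot : H ≠ ⊥
  conj_mem : ∀ x ∈ L, ∀ h ∈ H, x * h * x⁻¹ ∈ H
  centralizer_le : ∀ h ∈ H, h ≠ 1 → Subgroup.centralizer ({h} : Set G) ≤ H
  ti : ∀ g : G, ∀ x ∈ H, x ≠ 1 → g * x * g⁻¹ ∈ H → g ∈ L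

/-- The elements conjugate to a nontrivial element of `H`. -/
def Supp (H : Subgroup G) (g : G) : Prop := g ≠ 1 ∧ ∃ x : G, x * g * x⁻¹ ∈ H

theorem isFrobTI_of {L H : Subgroup G} (h1 : H < L) (h2 : H ≠ ⊥)
    (h3 : ∀ x ∈ L, ∀ h ∈ H, x * h * x⁻¹ ∈ H)
    (h4 : ∀ h ∈ H, h ≠ 1 → L ⊓ Subgroup.centralizer ({h} : Set G) ≤ H)
    (h5 : IsTISubset (H : Set G)) (h6 : Subgroup.normalizer (H : Set G) = L) : IsFrobTI L H := by
  have hti : ∀ g : G, ∀ x ∈ H, x ≠ 1 → g * x * g⁻¹ ∈ H → g ∈ L := fun g x hx hx1 hg =>
    by_contra fun hgL => hx1 (h5 g (h6 ▸ hgL) x hx hg)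
  refine ⟨h1, h2, h3, fun h hh hh1 c hc => h4 h hh hh1 ⟨hti c h hh hh1 ?_, hc⟩, hti⟩
  rwa [Subgroup.mem_centralizer_singleton_iff.mp hc, mul_inv_cancel_right]

theorem IsFrobTI.dade {L H : Subgroup G} (hF : IsFrobTI L H) :
    DadeHypothesis {x : G | x ∈ H ∧ x ≠ 1} L (fun _ => ⊥) := by
  refine ⟨fun h => h.2 rfl, fun x hx => hF.lt.le hx.1, fun x hx a ha => ⟨hF.conj_mem x hx a ha.1,
      fun h => ha.2 (conj_eq_one_iff.mp h)⟩,
    fun a ha g hg => ⟨g, hF.ti g a ha.1 ha.2 hg.1, rfl⟩,
    fun _ _ => bot_le, fun _ _ c _ u hu => ?_, fun _ _ => bot_inf_eq _, fun a ha => ?_,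
    fun _ _ _ _ => by rw [Subgroup.card_bot]; exact Nat.coprime_one_left _⟩
  · rw [Subgroup.mem_bot] at hu ⊢
    rw [hu, mul_one, mul_inv_cancel]
  · rw [bot_sup_eq, inf_eq_right]
    exact (hF.centralizer_le a ha.1 ha.2).trans hF.lt.le

theorem supp_iff {H : Subgroup G} {g : G} :
    Supp H g ↔ InSupp {x : G | x ∈ H ∧ x ≠ 1} (fun _ => (⊥ : Subgroup G)) g := by
  constructor
  · rintro ⟨h1, x, hx⟩
    exact ⟨_, ⟨hx, fun h => h1 (conj_eq_one_iff.mp h)⟩, 1, Subgroup.one_mem _, x,
      (mul_one _).symm⟩
  · rintro ⟨a, ⟨ha, ha1⟩, u, hu, x, hx⟩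
    rw [Subgroup.mem_bot] at hu
    rw [hu, mul_one] at hx
    exact ⟨fun h => ha1 (by rw [← hx, h, mul_one, mul_inv_cancel]), x, hx ▸ ha⟩

/-- The mass of an irreducible character on the conjugates of the nontrivial elements of `H`. -/
noncomputable def rho [Fintype G] (L H : Subgroup G) (ψ : G → ℂ) : ℝ := by
  classical
  exact (Nat.card L : ℝ)⁻¹ *
    ∑ g ∈ Finset.univ.filter (fun g : G => g ∈ H ∧ g ≠ 1), Complex.normSq (ψ g)

/-- The coherent family of a Frobenius TI subgroup with the bounds used later. -/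
structure Data [Fintype G] (L H : Subgroup G) where
  e : ℕ
  a : ℕ
  s : ℕ
  he : 3 ≤ e
  he' : Odd e
  hs : 2 ≤ s
  hs' : Even s
  ha : a = s * e + 1
  ha' : a ∣ Nat.card H
  card_eq : Nat.card L = Nat.card H * e
  X : Fin s → IrrCharacter G
  t0 : Fin s
  t1 : Fin s
  ht : t1 ≠ t0
  X_inj : Function.Injective X
  X_ne_one : ∀ t, (X t : G → ℂ) ≠ fun _ => 1
  ε : ℂ
  hε : ε = 1 ∨ ε = -1
  β : G → ℂ
  β_gen : IsGeneralizedCharacter G β
  β_norm : classInner β β = (e : ℂ) + 1
  β_one : classInner β (fun _ => 1) = 1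
  β_supp : ∀ g, ¬ Supp H g → β g = 0
  X_supp : ∀ t g, ¬ Supp H g → (X t : G → ℂ) g - (X t0 : G → ℂ) g = 0
  β_X : classInner β (X t1 : G → ℂ) - classInner β (X t0 : G → ℂ) = ε
  β_conj : conjFun β = β + ε • ((X t0 : G → ℂ) - (X t1 : G → ℂ))
  rho_self : 1 - (e : ℝ) / a ≤ rho L H (X t0 : G → ℂ)
  rho_other : ∀ ψ : IrrCharacter G, (∀ t, ψ ≠ X t) → ∀ c : ℤ,
    classInner β (ψ : G → ℂ) = c → (c : ℝ) ^ 2 * s / a ≤ rho L H (ψ : G → ℂ)

theorem rho_ge [Fintype G] {L H : Subgroup G} [Fintype L] (hle : H ≤ L) (ψ : G → ℂ) (y : L → ℂ)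
    (hy : ∀ x : L, ¬ ((x : G) ∈ H ∧ (x : G) ≠ 1) → y x = 0) :
    2 * (classInner (fun x : L => ψ x) y).re - (classInner y y).re ≤ rho L H ψ := by
  classical
  let x : L → ℂ := fun a => if (a : G) ∈ H ∧ (a : G) ≠ 1 then ψ a else 0
  have h1 : classInner x y = classInner (fun a : L => ψ a) y := by
    simp only [classInner]
    congr 1
    refine Finset.sum_congr rfl fun a _ => ?_
    by_cases h : (a : G) ∈ H ∧ (a : G) ≠ 1
    · simp only [x, if_pos h]
    · simp only [x, if_neg h, hy a h, map_zero, mul_zero]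
  have h2 : classInner x x = (rho L H ψ : ℂ) := by
    simp only [classInner, rho, Complex.ofReal_mul, Complex.ofReal_inv, Complex.ofReal_natCast,
      Complex.ofReal_sum]
    congr 1
    rw [← Finset.sum_subset (Finset.subset_univ
      (Finset.univ.filter fun a : L => (a : G) ∈ H ∧ (a : G) ≠ 1)) fun a _ ha => by
        simp only [x, if_neg fun h => ha (Finset.mem_filter.mpr ⟨Finset.mem_univ _, h⟩), zero_mul]]
    refine Finset.sum_bij (fun a _ => (a : G)) (fun a ha => ?_) (fun a _ b _ h => Subtype.ext h)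
      (fun g hg => ?_) fun a ha => ?_
    · simpa using ha
    · simp only [Finset.mem_filter, Finset.mem_univ, true_and] at hg
      exact ⟨⟨g, hle hg.1⟩, by simpa using hg, rfl⟩
    · simp only [x, if_pos (Finset.mem_filter.mp ha).2, Complex.mul_conj]
  have h3 := classInner_self_re_nonneg (x - y)
  rw [classInner_sub_left, classInner_sub_right, classInner_sub_right, h2,
    classInner_conj_symm x y, h1] at h3
  simp only [Complex.sub_re, Complex.ofReal_re, Complex.conj_re] at h3
  linarith

theorem IsFrobTI.exists_data [Fintype G] (hodd : Odd (Nat.card G)) {L H : Subgroup G}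
    (hF : IsFrobTI L H) : Nonempty (Data L H) := by
  classical
  have := Fintype.ofFinite L
  set N : Subgroup L := H.subgroupOf L with hN
  have hn : N.Normal := ⟨fun n hn x => hF.conj_mem x x.2 n hn⟩
  have := Fintype.ofFinite N
  have hcardN : Nat.card N = Nat.card H := Nat.card_congr (Subgroup.subgroupOfEquivOfLe hF.lt.le).toEquiv
  have hC : ∀ n ∈ N, n ≠ 1 → Subgroup.centralizer ({n} : Set L) ≤ N := by
    intro n hn' hn1 c hc
    refine hF.centralizer_le n hn' (fun h => hn1 (Subtype.ext h)) ?_
    have h := congrArg Subtype.val (Subgroup.mem_centralizer_singleton_iff.mp hc)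
    exact Subgroup.mem_centralizer_singleton_iff.mpr h
  obtain ⟨x₀, hx₀L, hx₀⟩ := SetLike.exists_of_lt hF.lt
  have hxN : (⟨x₀, hx₀L⟩ : L) ∉ N := hx₀
  have hnt : Nontrivial N := by
    rw [← Finite.one_lt_card_iff_nontrivial, hcardN]
    exact Subgroup.one_lt_card_iff_ne_bot H |>.mpr hF.ne_bot
  have hLodd : Odd (Nat.card L) := hodd.of_dvd_nat (Subgroup.card_subgroup_dvd_card L)
  have hnil : Group.IsNilpotent N := by
    set x : L := ⟨x₀, hx₀L⟩ with hx
    have hx1 : x ≠ 1 := fun h => hxN (h ▸ N.one_mem)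
    obtain ⟨r, hr, hrd⟩ := Nat.exists_prime_and_dvd
      (fun h => hx1 (orderOf_eq_one_iff.mp h) : orderOf x ≠ 1)
    have hy : orderOf (x ^ (orderOf x / r)) = r := orderOf_pow_orderOf_div (orderOf_pos x).ne' hrd
    refine FPF.isNilpotent_of_prime_element hr (h := x ^ (orderOf x / r))
      (by nth_rw 2 [← hy]; exact pow_orderOf_eq_one _) fun n hn' hcomm => ?_
    by_contra hn1
    have h1 : x ^ (orderOf x / r) ∈ N :=
      hC n hn' hn1 (Subgroup.mem_centralizer_singleton_iff.mpr hcomm)
    refine hxN (hC _ h1 (fun h => ?_) (Subgroup.mem_centralizer_singleton_iff.mpr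
      (Commute.self_pow x _).eq))
    rw [h, orderOf_one] at hy
    exact hr.ne_one hy.symm
  have ha1 : 1 < (commutator N).index := by
    exact Subgroup.one_lt_index_of_ne_top (IsSolvable.commutator_lt_top_of_nontrivial N).ne
  have hadvd : (commutator N).index ∣ Nat.card H := hcardN ▸ (commutator N).index_dvd_card
  have haodd : Odd (commutator N).index :=
    (hodd.of_dvd_nat (Subgroup.card_subgroup_dvd_card H)).of_dvd_nat hadvd
  set e := N.index with he
  have hcardL : Nat.card L = Nat.card H * e := by rw [← hcardN, he, Subgroup.card_mul_index]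
  have heodd : Odd e := hLodd.of_dvd_nat N.index_dvd_card
  have he3 : 3 ≤ e := by
    have h1 : 1 < e := Subgroup.one_lt_index_of_ne_top fun h => hxN (h ▸ Subgroup.mem_top _)
    obtain ⟨k, hk⟩ := heodd
    omega
  -- linear characters of `N` and the characters they induce
  have hfinhom : Finite (N →* ℂˣ) := by
    have : Finite (Abelianization N) := inferInstanceAs (Finite (N ⧸ commutator N))
    exact Finite.of_equiv _ (linearEquiv N).symm
  have := Fintype.ofFinite (N →* ℂˣ)
  let cl : (N →* ℂˣ) → N → ℂ := fun l n => (l n : ℂ)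
  have hclinj : Function.Injective cl := fun l m h =>
    MonoidHom.ext fun n => Units.ext (congrFun h n)
  have hcl1 : cl 1 = fun _ => (1 : ℂ) := by funext n; simp [cl]
  have hinert : ∀ l : N →* ℂˣ, l ≠ 1 → inertia N (cl l) = N := fun l hl => le_antisymm
    (fun g hg => by
      by_contra hgN
      exact hl (hclinj ((S1528.eq_one_of_fixed N hC hgN (isIrrCharacter_linear l) hg).trans hcl1.symm)))
    (le_inertia N (isClassFunction_of_isIrr (isIrrCharacter_linear l)))
  let θ : (N →* ℂˣ) → L → ℂ := fun l => indFun N (cl l)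
  have hirr : ∀ l, l ≠ 1 → IsIrrCharacter L (θ l) := fun l hl =>
    isIrrCharacter_indFun N (isIrrCharacter_linear l) (hinert l hl)
  let T : Finset (N →* ℂˣ) := Finset.univ.erase 1
  let Θ : Finset (L → ℂ) := T.image θ
  have hTcard : T.card + 1 = (commutator N).index := by
    rw [← card_linear, ← Nat.card_congr (linearEquiv N), Finset.card_erase_of_mem (Finset.mem_univ _),
      Finset.card_univ, Nat.card_eq_fintype_card]
    have : 0 < Fintype.card (N →* ℂˣ) := Fintype.card_pos
    omega
  have hfib : ∀ l ∈ T, (T.filter fun m => θ m = θ l).card = e := by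
    intro l hl
    have hl1 := (Finset.mem_erase.mp hl).1
    rw [← Finset.card_image_of_injective _ hclinj, show e = (orbit N (cl l)).card by
      rw [card_orbit N _ (by simp [cl]), hinert l hl1]]
    congr 1
    ext ψ
    simp only [Finset.mem_image, Finset.mem_filter, mem_orbit]
    constructor
    · rintro ⟨m, ⟨hm, hme⟩, rfl⟩
      by_contra hc
      push Not at hc
      have h0 : classInner (fun n : N => θ l n) (cl m) = 0 := by
        simp only [θ]
        rw [indFun_restrict_normal, classInner_smul_left, classInner_sum_left,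
          Finset.sum_eq_zero fun x _ => classInner_irr_ne
            (isIrrCharacter_conjChar N x (isIrrCharacter_linear l)) (isIrrCharacter_linear m) (hc x),
          mul_zero]
      rw [← classInner_indFun_right N (cl m) (isClassFunction_indFun N _)] at h0
      change classInner (θ l) (θ m) = 0 at h0
      rw [hme, classInner_irr_self (hirr l hl1)] at h0
      exact one_ne_zero h0
    · rintro ⟨g, rfl⟩
      refine ⟨l.comp (MulAut.conjNormal (H := N) g).toMonoidHom, ⟨Finset.mem_erase.mpr ⟨fun h => ?_,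
        Finset.mem_univ _⟩, ?_⟩, (conjChar_eq_comp N g (cl l)).symm⟩
      · exact hl1 (MonoidHom.ext fun n => by
          have := DFunLike.congr_fun h ((MulAut.conjNormal g).symm n)
          simpa using this)
      · show indFun N (cl (l.comp (MulAut.conjNormal g).toMonoidHom)) = indFun N (cl l)
        rw [show cl (l.comp (MulAut.conjNormal g).toMonoidHom) = conjChar N g (cl l) from
          (conjChar_eq_comp N g (cl l)).symm]
        funext y
        by_cases hy : y ∈ N
        · rw [show y = ((⟨y, hy⟩ : N) : L) from rfl, indFun_apply_of_mem, indFun_apply_of_mem]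
          congr 1
          refine Fintype.sum_equiv (Equiv.mulLeft g) _ _ fun x => ?_
          rw [Equiv.coe_mulLeft, conjChar_mul]
        · rw [indFun_apply_of_not_mem N _ hy, indFun_apply_of_not_mem N _ hy]
  have hcount : T.card = Θ.card * e := by
    rw [Finset.card_eq_sum_card_image θ T, Finset.sum_const_nat]
    intro ψ hψ
    obtain ⟨l, hl, rfl⟩ := Finset.mem_image.mp hψ
    exact hfib l hl
  set s := Θ.card with hs
  have hsa : (commutator N).index = s * e + 1 := by rw [← hTcard, hcount]
  have hseven : Even s := by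
    rcases Nat.even_or_odd s with h | h
    · exact h
    · exfalso
      obtain ⟨k, hk⟩ := h.mul heodd
      obtain ⟨l, hl⟩ := haodd
      omega
  have hs2 : 2 ≤ s := by
    obtain ⟨k, hk⟩ := hseven
    rcases Nat.eq_zero_or_pos s with h | h
    · rw [h, zero_mul] at hsa; omega
    · omega
  let f : Fin s → L → ℂ := fun t => (Θ.equivFin.symm t : L → ℂ)
  have hfinj : Function.Injective f := fun a b h => Θ.equivFin.symm.injective (Subtype.ext h)
  have hfθ : ∀ t, ∃ l, l ≠ 1 ∧ f t = θ l := fun t => by
    obtain ⟨l, hl, h⟩ := Finset.mem_image.mp (Θ.equivFin.symm t).2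
    exact ⟨l, (Finset.mem_erase.mp hl).1, h.symm⟩
  have hfsurj : ∀ l, l ≠ 1 → ∃ t, f t = θ l := fun l hl => ⟨Θ.equivFin ⟨θ l,
    Finset.mem_image_of_mem θ (Finset.mem_erase.mpr ⟨hl, Finset.mem_univ _⟩)⟩, by
      simp only [f, Equiv.symm_apply_apply]⟩
  have hfirr : ∀ t, IsIrrCharacter L (f t) := fun t => by
    obtain ⟨l, hl, h⟩ := hfθ t
    exact h ▸ hirr l hl
  have hf1 : ∀ t, f t 1 = (e : ℂ) := fun t => by
    obtain ⟨l, -, h⟩ := hfθ t
    simp only [h, θ, indFun_one, cl, map_one, Units.val_one, mul_one, he]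
  have hf0 : ∀ t, ∀ y : L, y ∉ N → f t y = 0 := fun t y hy => by
    obtain ⟨l, -, h⟩ := hfθ t
    simp only [h, θ, indFun_apply_of_not_mem N _ hy]
  have hfI : ∀ t u, classInner (f t) (f u) = if t = u then 1 else 0 := fun t u => by
    split_ifs with h
    · rw [h, classInner_irr_self (hfirr u)]
    · exact classInner_irr_ne (hfirr t) (hfirr u) (hfinj.ne h)
  have hfone : ∀ t, f t ≠ fun _ => 1 := fun t h => by
    have h' : ((1 : ℕ) : ℂ) = (e : ℂ) := by rw [Nat.cast_one, ← hf1 t, h]
    have := Nat.cast_injective h'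
    omega
  let π : L → ℂ := indFun N fun _ => 1
  have hπ1 : π 1 = (e : ℂ) := by simp only [π, indFun_one, mul_one, he]
  have hπN : ∀ y : L, y ∈ N → π y = (e : ℂ) := fun y hy => by
    show indFun N (fun _ => 1) ((⟨y, hy⟩ : N) : L) = _
    rw [indFun_apply_of_mem]
    simp only [conjChar_apply, Finset.sum_const, Finset.card_univ, nsmul_eq_mul, mul_one,
      ← Nat.card_eq_fintype_card]
    rw [← N.card_mul_index, Nat.cast_mul, ← mul_assoc, inv_mul_cancel₀ (card_ne_zero_complex N),
      one_mul, he]
  have hπ0 : ∀ y : L, y ∉ N → π y = 0 := fun y hy => indFun_apply_of_not_mem N _ hy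
  have hπcf : IsClassFunction L π := isClassFunction_indFun N _
  have hπres : (fun n : N => π n) = (e : ℂ) • fun _ => (1 : ℂ) := funext fun n => by
    simp only [hπN n n.2, Pi.smul_apply, smul_eq_mul, mul_one]
  have hππ : classInner π π = (e : ℂ) := by
    show classInner (indFun N fun _ => 1) π = _
    rw [classInner_indFun N _ hπcf, hπres, classInner_smul_right, classInner_irr_self isIrrCharacter_one,
      Complex.conj_natCast, mul_one]
  have hπf : ∀ t, classInner π (f t) = 0 := fun t => by
    obtain ⟨l, hl, h⟩ := hfθ t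
    show classInner π (f t) = 0
    rw [h, classInner_indFun_right N _ hπcf, hπres, classInner_smul_left,
      classInner_irr_ne isIrrCharacter_one (isIrrCharacter_linear l)
        (fun h => hl (hclinj (h.symm.trans hcl1.symm))), mul_zero]
  have hπone : classInner π (fun _ => 1) = 1 := by
    show classInner (indFun N fun _ => 1) _ = _
    rw [classInner_indFun N _ (fun _ _ => rfl)]
    exact classInner_irr_self isIrrCharacter_one
  -- functions supported on the nontrivial elements of `N`
  let V : Set (L → ℂ) := {y | IsClassFunction L y ∧ ∀ x : L, ¬ ((x : G) ∈ H ∧ (x : G) ≠ 1) → y x = 0}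
  have hVdiff : ∀ t u, f t - f u ∈ V := fun t u =>
    ⟨isClassFunction_sub (isClassFunction_of_isIrr (hfirr t)) (isClassFunction_of_isIrr (hfirr u)),
      fun x hx => by
        by_cases hxN : x ∈ N
        · have : x = 1 := Subtype.ext (by_contra fun h => hx ⟨hxN, h⟩)
          simp [this, hf1]
        · simp [hf0 t x hxN, hf0 u x hxN]⟩
  have hVπ : ∀ t, π - f t ∈ V := fun t =>
    ⟨isClassFunction_sub hπcf (isClassFunction_of_isIrr (hfirr t)),
      fun x hx => by
        by_cases hxN : x ∈ N
        · have : x = 1 := Subtype.ext (by_contra fun h => hx ⟨hxN, h⟩)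
          simp [this, hπ1, hf1]
        · simp [hπ0 x hxN, hf0 t x hxN]⟩
  have hD := hF.dade
  have hVind : ∀ y ∈ V, ∀ g, ¬ Supp H g → indFun L y g = 0 := fun y hy g hg => by
    rw [indFun_eq_dade hD hy.1 hy.2, dade_eq_zero hD _ fun h => hg (supp_iff.mpr h)]
  have hiso : ∀ y ∈ V, ∀ z ∈ V, classInner (indFun L y) (indFun L z) = classInner y z := by
    intro y hy z hz
    rw [classInner_indFun L y (isClassFunction_indFun L z), classInner, classInner]
    congr 1
    refine Finset.sum_congr rfl fun x _ => ?_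
    by_cases hx : (x : G) ∈ H ∧ (x : G) ≠ 1
    · rw [indFun_eq_dade hD hz.1 hz.2,
        dade_apply hD hz.1 (g := (x : G)) (x := 1) hx (Subgroup.one_mem _) (by group)]
    · rw [hy.2 x hx, zero_mul, zero_mul]
  have hgen : ∀ t u, IsGeneralizedCharacter G (indFun L (f t - f u)) := fun t u =>
    Involution.isGeneralized_indFun _ (generalized_sub
      (generalized_of_isCharacter (isCharacter_of_isIrr (hfirr t)))
      (generalized_of_isCharacter (isCharacter_of_isIrr (hfirr u))))
  let t0 : Fin s := ⟨0, by omega⟩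
  obtain ⟨ε, hε, X, hX, hXeq⟩ := exists_coherent_family t0 (fun t => indFun L (f t - f t0))
    (by rw [sub_self, indFun_zero]) (fun t => hgen t t0)
    (fun t => by
      show indFun L (f t - f t0) 1 = 0
      rw [indFun_one, Pi.sub_apply, hf1, hf1, sub_self, mul_zero])
    fun t u ht hu => by
      rw [hiso _ (hVdiff t t0) _ (hVdiff u t0), classInner_sub_left, classInner_sub_right,
        classInner_sub_right, hfI, hfI, hfI, hfI, if_neg ht, if_neg (Ne.symm hu), if_pos rfl]
      refine ⟨fun h => ?_, fun h => ?_⟩ <;> simp [h] <;> norm_num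
  have hεc : conj ε = ε := by rcases hε with h | h <;> simp [h]
  have hεsq : ε * ε = 1 := by rcases hε with h | h <;> simp [h]
  have hεne : ε ≠ 0 := by rcases hε with h | h <;> simp [h]
  have hXsupp : ∀ t g, ¬ Supp H g → (X t : G → ℂ) g - (X t0 : G → ℂ) g = 0 := fun t g hg => by
    have h := congrFun (hXeq t) g
    rw [hVind _ (hVdiff t t0) g hg, Pi.smul_apply, Pi.sub_apply, smul_eq_mul] at h
    exact (mul_eq_zero.mp h.symm).resolve_left hεne
  have hXone : ∀ t, (X t : G → ℂ) ≠ fun _ => 1 := by
    intro t h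
    have key : ∀ u v : Fin s, classInner (indFun L (f u - f v)) (fun _ => 1) = 0 := fun u v => by
      rw [classInner_indFun L _ (fun _ _ => rfl), classInner_sub_left,
        classInner_irr_ne (hfirr u) isIrrCharacter_one (hfone u),
        classInner_irr_ne (hfirr v) isIrrCharacter_one (hfone v), sub_zero]
    obtain ⟨u, hu, hut⟩ : ∃ u, u ≠ t0 ∧ (t = t0 ∨ t = u) := by
      by_cases ht : t = t0
      · exact ⟨⟨1, by omega⟩, fun h => by simp [t0, Fin.ext_iff] at h, Or.inl ht⟩
      · exact ⟨t, ht, Or.inr rfl⟩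
    have h0 := key u t0
    rw [hXeq u, classInner_smul_left, ← h, classInner_sub_left, classInner_irrCharacter,
      classInner_irrCharacter] at h0
    rcases hut with rfl | rfl
    · rw [if_neg (hX.ne hu), if_pos rfl, zero_sub, mul_neg, mul_one, neg_eq_zero] at h0
      exact hεne h0
    · rw [if_pos rfl, if_neg (hX.ne (Ne.symm hu)), sub_zero, mul_one] at h0
      exact hεne h0
  -- the conjugate of the base point
  obtain ⟨t1, ht1⟩ : ∃ t1, f t1 = conjFun (f t0) := by
    obtain ⟨l, hl, hle'⟩ := hfθ t0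
    obtain ⟨t, ht⟩ := hfsurj l⁻¹ (fun h => hl (MonoidHom.ext fun n => by
      simpa using DFunLike.congr_fun h n))
    refine ⟨t, ht.trans ?_⟩
    rw [hle']
    funext y
    simp only [θ, conjFun, indFun, map_mul, map_sum, map_inv₀, Complex.conj_natCast]
    congr 1
    refine Finset.sum_congr rfl fun x _ => ?_
    by_cases hx : x⁻¹ * y * x ∈ N
    · rw [extendByZero_mem N _ hx, extendByZero_mem N _ hx]
      simp only [cl, MonoidHom.inv_apply]
      rw [← map_inv]
      exact char_inv (isCharacter_of_isIrr (isIrrCharacter_linear l)) _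
    · rw [extendByZero_not_mem N _ hx, extendByZero_not_mem N _ hx, map_zero]
  have ht10 : t1 ≠ t0 := by
    intro h
    rw [h] at ht1
    have := eq_one_of_real hLodd ⟨f t0, hfirr t0⟩ fun y =>
      Complex.conj_eq_iff_im.mp (congrFun ht1 y).symm
    exact hfone t0 this
  set β : G → ℂ := indFun L (π - f t0) with hβ
  have hβX : ∀ t, t ≠ t0 → classInner β (X t : G → ℂ) - classInner β (X t0 : G → ℂ) = ε := by
    intro t ht
    have h := hiso _ (hVπ t0) _ (hVdiff t t0)
    rw [hXeq t, classInner_smul_right, classInner_sub_right, hεc, classInner_sub_left,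
      classInner_sub_right, classInner_sub_right, hπf, hπf, hfI, hfI, if_neg (Ne.symm ht),
      if_pos rfl] at h
    linear_combination ε * h + (classInner β (X t : G → ℂ) - classInner β (X t0 : G → ℂ)) *
      (-hεsq)
  -- the lower bound
  have hlow : ∀ (ψ : IrrCharacter G) (c : ℤ), classInner β (ψ : G → ℂ) = c →
      ∀ (k : ℝ) (m : Fin s → ℝ) (d : Fin s → ℝ), k + ∑ t, m t = 0 →
      (∀ t, classInner (indFun L (f t - f t0)) (ψ : G → ℂ) = (d t : ℂ)) →
      2 * (k * c + ∑ t, m t * d t) - (k ^ 2 * e + ∑ t, m t ^ 2) ≤ rho L H (ψ : G → ℂ) := by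
    intro ψ c hc k m d hkm hd
    have hm' : (k : ℂ) + ∑ t, (m t : ℂ) = 0 := by exact_mod_cast hkm
    set y : L → ℂ := (k : ℂ) • π + ∑ t, (m t : ℂ) • f t with hy
    have hyeq : y = (k : ℂ) • (π - f t0) + ∑ t, (m t : ℂ) • (f t - f t0) := by
      funext x
      simp only [hy, Pi.add_apply, Pi.smul_apply, Pi.sub_apply, Finset.sum_apply, smul_eq_mul, mul_sub,
        Finset.sum_sub_distrib, ← Finset.sum_mul]
      linear_combination f t0 x * hm'
    have hysupp : ∀ x : L, ¬ ((x : G) ∈ H ∧ (x : G) ≠ 1) → y x = 0 := fun x hx => by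
      simp only [hyeq, Pi.add_apply, Pi.smul_apply, Finset.sum_apply, (hVπ t0).2 x hx,
        (hVdiff _ t0).2 x hx, smul_eq_mul, mul_zero, Finset.sum_const_zero, add_zero]
    have h1 : classInner y (fun x : L => (ψ : G → ℂ) x) = ((k * c + ∑ t, m t * d t : ℝ) : ℂ) := by
      rw [hyeq, classInner_add_left, classInner_smul_left, classInner_sum_left,
        ← classInner_indFun L _ (isClassFunction_of_isIrr ψ.2), ← hβ, hc]
      push_cast
      congr 1
      refine Finset.sum_congr rfl fun t _ => ?_
      rw [classInner_smul_left, ← classInner_indFun L _ (isClassFunction_of_isIrr ψ.2), hd]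
    have h2 : classInner y y = ((k ^ 2 * e + ∑ t, m t ^ 2 : ℝ) : ℂ) := by
      have hπf' : ∀ t, classInner (f t) π = 0 := fun t => by
        rw [classInner_conj_symm, hπf, map_zero]
      simp only [hy, classInner_add_left, classInner_add_right, classInner_smul_left,
        classInner_smul_right, classInner_sum_left, classInner_sum_right, hππ, hπf, hπf', hfI,
        Complex.conj_ofReal, mul_zero, Finset.sum_const_zero, add_zero, zero_add, mul_ite, mul_one]
      push_cast
      congr 1
      · ring
      · refine Finset.sum_congr rfl fun t _ => ?_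
        rw [Finset.sum_eq_single t (fun x _ hx => if_neg hx) (fun h => absurd (Finset.mem_univ t) h),
          if_pos rfl]
        ring
    have h := rho_ge hF.lt.le (ψ : G → ℂ) y hysupp
    rw [classInner_conj_symm y, Complex.conj_re, h1, h2, Complex.ofReal_re, Complex.ofReal_re] at h
    exact h
  have hβgen : IsGeneralizedCharacter G β := by
    refine Involution.isGeneralized_indFun _ (generalized_sub
      (generalized_of_isCharacter ?_) (generalized_of_isCharacter (isCharacter_of_isIrr (hfirr t0))))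
    exact isCharacter_indFun N isCharacter_one
  have hsR : (0 : ℝ) < s := by exact_mod_cast (by omega : 0 < s)
  have haR : ((commutator N).index : ℝ) = s * e + 1 := by exact_mod_cast hsa
  have haR0 : (0 : ℝ) < s * e + 1 := by positivity
  refine ⟨{
    e := e, a := (commutator N).index, s := s, he := he3, he' := heodd, hs := hs2, hs' := hseven,
    ha := hsa, ha' := hadvd, card_eq := hcardL, X := X, t0 := t0, t1 := t1, ht := ht10,
    X_inj := hX, X_ne_one := hXone, ε := ε, hε := hε, β := β, β_gen := hβgen,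
    β_norm := ?_, β_one := ?_, β_supp := fun g hg => hVind _ (hVπ t0) g hg, X_supp := hXsupp,
    β_X := hβX t1 ht10, β_conj := ?_, rho_self := ?_, rho_other := ?_ }⟩
  · rw [hβ, hiso _ (hVπ t0) _ (hVπ t0), classInner_sub_left, classInner_sub_right,
      classInner_sub_right, hππ, hπf, classInner_conj_symm π (f t0), hπf, map_zero, hfI, if_pos rfl]
    ring
  · rw [hβ, classInner_indFun L _ (fun _ _ => rfl), classInner_sub_left, hπone,
      classInner_irr_ne (hfirr t0) isIrrCharacter_one (hfone t0), sub_zero]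
  · have hπreal : conjFun π = π := funext fun y => by
      by_cases hy : y ∈ N
      · simp [conjFun, hπN y hy]
      · simp [conjFun, hπ0 y hy]
    have h : conjFun β = indFun L (conjFun (π - f t0)) := by
      funext g
      simp only [hβ, conjFun, indFun, map_mul, map_sum, map_inv₀, Complex.conj_natCast]
      congr 1
      refine Finset.sum_congr rfl fun x _ => ?_
      by_cases hx : x⁻¹ * g * x ∈ L
      · rw [extendByZero_mem L _ hx, extendByZero_mem L _ hx]
        rfl
      · rw [extendByZero_not_mem L _ hx, extendByZero_not_mem L _ hx, map_zero]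
    have h2 : conjFun (π - f t0) = (π - f t0) - (f t1 - f t0) := by
      funext y
      have a1 := congrFun hπreal y
      have a2 := congrFun ht1 y
      simp only [conjFun, Pi.sub_apply, map_sub] at a1 a2 ⊢
      rw [a1, a2]; ring
    rw [h, h2, indFun_sub, hXeq t1, ← hβ, sub_eq_add_neg, ← smul_neg, neg_sub]
  · obtain ⟨b, hb⟩ := generalized_classInner_int hβgen (X t0)
    obtain ⟨η, hη, hη'⟩ : ∃ η : ℤ, (η = 1 ∨ η = -1) ∧ ε = (η : ℂ) := by
      rcases hε with h | h
      · exact ⟨1, Or.inl rfl, by simp [h]⟩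
      · exact ⟨-1, Or.inr rfl, by simp [h]⟩
    set d : Fin s → ℝ := fun t => if t = t0 then 0 else -(η : ℝ) with hd
    have hdval : ∀ t, classInner (indFun L (f t - f t0)) (X t0 : G → ℂ) = (d t : ℂ) := fun t => by
      rw [hXeq t, classInner_smul_left, classInner_sub_left, classInner_irrCharacter,
        classInner_irrCharacter, if_pos rfl]
      by_cases h : t = t0
      · simp [hd, h]
      · rw [if_neg (hX.ne h), hη']; simp [hd, h]
    set M : ℝ := -(η : ℝ) * (s - 1) / s with hM
    set k : ℝ := (b - M) * s / (s * e + 1) with hk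
    have hsumd : ∑ t, d t = -(η : ℝ) * (s - 1) := by
      rw [Finset.sum_ite, Finset.sum_const_zero, zero_add, Finset.sum_const, Finset.filter_ne',
        Finset.card_erase_of_mem (Finset.mem_univ _), Finset.card_univ, Fintype.card_fin, nsmul_eq_mul,
        Nat.cast_sub (by omega), Nat.cast_one]
      ring
    have hsumd2 : ∑ t, d t ^ 2 = (s : ℝ) - 1 := by
      simp only [hd, ite_pow, zero_pow two_ne_zero]
      rw [Finset.sum_ite, Finset.sum_const_zero, zero_add, Finset.sum_const, Finset.filter_ne',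
        Finset.card_erase_of_mem (Finset.mem_univ _), Finset.card_univ, Fintype.card_fin, nsmul_eq_mul,
        Nat.cast_sub (by omega), Nat.cast_one]
      rcases hη with h | h <;> simp [h]
    have hlow' := hlow (X t0) b hb k (fun t => d t - M - k / s) d (by
      rw [Finset.sum_sub_distrib, Finset.sum_sub_distrib, hsumd, Finset.sum_const, Finset.sum_const,
        Finset.card_univ, Fintype.card_fin, nsmul_eq_mul, nsmul_eq_mul, hM]
      field_simp
      ring) hdval
    have e1 : ∑ t, (d t - M - k / s) * d t = (s - 1) - (M + k / s) * (-(η : ℝ) * (s - 1)) := by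
      rw [← hsumd, ← hsumd2, Finset.mul_sum, ← Finset.sum_sub_distrib]
      exact Finset.sum_congr rfl fun t _ => by ring
    have e2 : ∑ t, (d t - M - k / s) ^ 2 =
        (s - 1) - 2 * (M + k / s) * (-(η : ℝ) * (s - 1)) + s * (M + k / s) ^ 2 := by
      rw [← hsumd, ← hsumd2, Finset.mul_sum, ← Finset.sum_sub_distrib]
      rw [show (s : ℝ) * (M + k / s) ^ 2 = ∑ _t : Fin s, (M + k / s) ^ 2 by simp,
        ← Finset.sum_add_distrib]
      exact Finset.sum_congr rfl fun t _ => by ring
    have hη2 : (η : ℝ) ^ 2 = 1 := by rcases hη with h | h <;> simp [h]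
    have key : 1 ≤ ((b : ℝ) - M) ^ 2 * s ^ 2 := by
      have h0 : ((b : ℝ) - M) * s = ((b + η) * (s : ℤ) - η : ℤ) := by
        rw [hM]; push_cast; field_simp; ring
      rw [← mul_pow, h0]
      have hne : (b + η) * (s : ℤ) - η ≠ 0 := by
        intro h
        have hdvd : (s : ℤ) ∣ η := ⟨b + η, by linarith⟩
        have : (s : ℤ) ∣ 1 := by rcases hη with h' | h' <;> simpa [h'] using hdvd
        have := Int.le_of_dvd one_pos this
        omega
      exact_mod_cast sq_pos_of_ne_zero hne
    rw [e1, e2] at hlow'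
    refine le_trans ?_ hlow'
    rw [haR]
    have e3 : 2 * (k * b + ((s : ℝ) - 1 - (M + k / s) * (-(η : ℝ) * (s - 1)))) -
        (k ^ 2 * e + ((s : ℝ) - 1 - 2 * (M + k / s) * (-(η : ℝ) * (s - 1)) + s * (M + k / s) ^ 2)) =
        ((s : ℝ) - 1) / s + ((b : ℝ) - M) ^ 2 * s / (s * e + 1) := by
      have hM2 : M ^ 2 = ((s : ℝ) - 1) ^ 2 / s ^ 2 := by
        rw [hM, div_pow, mul_pow, neg_sq, hη2, one_mul]
      have hk' : k * (s * e + 1) = ((b : ℝ) - M) * s := by rw [hk]; field_simp
      have e4 : (s : ℝ) - 1 - (s : ℝ) * M ^ 2 = ((s : ℝ) - 1) / s := by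
        rw [hM2]; field_simp; ring
      have e5 : ((b : ℝ) - M) ^ 2 * s / (s * e + 1) = k * ((b : ℝ) - M) := by
        rw [hk]; field_simp
      rw [← e4, e5]
      field_simp
      linear_combination (-k) * hk'
    rw [e3]
    have hstep : (1 : ℝ) / (s * (s * e + 1)) ≤ ((b : ℝ) - M) ^ 2 * s / (s * e + 1) := by
      rw [div_le_div_iff₀ (by positivity) haR0]
      nlinarith
    have e6 : ((s : ℝ) - 1) / s + 1 / (s * (s * e + 1)) = 1 - (e : ℝ) / (s * e + 1) := by
      field_simp
      ring
    linarith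
  · intro ψ hψ c hc
    have hd0 : ∀ t, classInner (indFun L (f t - f t0)) (ψ : G → ℂ) = ((0 : ℝ) : ℂ) := fun t => by
      rw [hXeq t, classInner_smul_left, classInner_sub_left, classInner_irrCharacter,
        classInner_irrCharacter, if_neg (Ne.symm (hψ t)), if_neg (Ne.symm (hψ t0))]
      simp
    set k : ℝ := c * s / (s * e + 1) with hk
    have h := hlow ψ c hc k (fun _ => -k / s) (fun _ => 0) (by
      rw [Finset.sum_const, Finset.card_univ, Fintype.card_fin, nsmul_eq_mul]
      field_simp
      ring) hd0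
    refine le_trans (le_of_eq ?_) h
    rw [haR, Finset.sum_const, Finset.sum_const, Finset.card_univ, Fintype.card_fin, nsmul_eq_mul,
      nsmul_eq_mul, hk]
    field_simp
    ring

end Cfsg.Agent.Lib.OddPartition
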